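import Mathlib
import Groth.Prelude.Def_W4stkalgstUpp

/-!
# The class `R` of `u_pp 𝒮` admits a right calculus of fractions (helper6)
-/

set_option linter.unusedSectionVars false
set_option linter.unusedVariables false
set_option linter.unusedSimpArgs false
set_option autoImplicit false
set_option linter.style.haveILetI false
set_option maxHeartbeats 400000

noncomputable section

namespace Groth.Agent.Helper6.UppL

open CategoryTheory CategoryTheory.Limits CategoryTheory.Functor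

universe v₃ u₃ v₂ u₂ v u

section Plain

variable {C : Type u} [Category.{v} C] {𝒳 : Type u₃} [Category.{v₃} 𝒳] (p : 𝒳 ⥤ C)

theorem isHomLift_iff_map_eq' {a b : 𝒳} (g : p.obj a ⟶ p.obj b) (χ : a ⟶ b) :
    p.IsHomLift g χ ↔ p.map χ = g := by
  constructor
  · intro h
    exact (IsHomLift.eq_of_isHomLift p g χ).symm
  · rintro rfl
    infer_instance

theorem sc_map_of {R S : C} (f : R ⟶ S) {a b : 𝒳} (φ : a ⟶ b)
    (h : p.IsStronglyCartesian f φ) : p.IsStronglyCartesian (p.map φ) φ := by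
  have hl := h.toIsHomLift
  obtain ⟨⟩ := hl
  exact h

/-- A strongly cartesian lift of an arrow, in `map`-form. -/
theorem exists_cartLift [p.IsFibered] (x : 𝒳) {U : C} (f : U ⟶ p.obj x) :
    ∃ (x' : 𝒳) (t : x' ⟶ x) (e : p.obj x' = U), p.map t = eqToHom e ≫ f ∧
      p.IsStronglyCartesian (p.map t) t := by
  let x' := IsPreFibered.pullbackObj (p := p) (rfl : p.obj x = p.obj x) f
  let t : x' ⟶ x := IsPreFibered.pullbackMap (p := p) rfl f
  have hsc : p.IsStronglyCartesian f t := inferInstance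
  have e : p.obj x' = U := IsPreFibered.pullbackObj_proj (p := p) rfl f
  have hl : p.IsHomLift f t := inferInstance
  have hfac : p.map t = eqToHom e ≫ f := by
    have := IsHomLift.fac' p f t
    simpa using this
  exact ⟨x', t, e, hfac, sc_map_of p f t hsc⟩

/-- Universal property of a strongly cartesian morphism, in `map`-form. -/
theorem sc_existsUnique {y y' z : 𝒳} (s : y ⟶ y') (hs : p.IsStronglyCartesian (p.map s) s)
    (ψ : z ⟶ y') (g : p.obj z ⟶ p.obj y) (hg : g ≫ p.map s = p.map ψ) :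
    ∃! χ : z ⟶ y, p.map χ = g ∧ χ ≫ s = ψ := by
  have hl : p.IsHomLift (g ≫ p.map s) ψ := by
    rw [hg]; infer_instance
  obtain ⟨χ, ⟨h1, h2⟩, h3⟩ := Functor.IsStronglyCartesian.universal_property' (p := p)
    (f := p.map s) (φ := s) g ψ
  refine ⟨χ, ⟨(isHomLift_iff_map_eq' p g χ).1 h1, h2⟩, ?_⟩
  rintro χ' ⟨h1', h2'⟩
  exact h3 χ' ⟨(isHomLift_iff_map_eq' p g χ').2 h1', h2'⟩

theorem sc_ext {y y' z : 𝒳} (s : y ⟶ y') (hs : p.IsStronglyCartesian (p.map s) s)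
    (χ χ' : z ⟶ y) (h1 : p.map χ = p.map χ') (h2 : χ ≫ s = χ' ≫ s) : χ = χ' := by
  have hg : p.map χ ≫ p.map s = p.map (χ ≫ s) := (p.map_comp χ s).symm
  obtain ⟨χ₀, -, h3⟩ := sc_existsUnique p s hs (χ ≫ s) (p.map χ) hg
  rw [h3 χ ⟨rfl, rfl⟩, h3 χ' ⟨h1.symm, h2.symm⟩]

/-- A strongly cartesian lift whose image is the first projection of a given pullback square. -/
theorem exists_cart_pullback [p.IsFibered] (x : 𝒳) {Z W U : C} (a : p.obj x ⟶ W) (b : Z ⟶ W)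
    (fst : U ⟶ p.obj x) (snd : U ⟶ Z) (hpb : IsPullback fst snd a b) :
    ∃ (x' : 𝒳) (t : x' ⟶ x) (q : p.obj x' ⟶ Z), IsPullback (p.map t) q a b ∧
      p.IsStronglyCartesian (p.map t) t := by
  obtain ⟨x', t, e, ht, hsc⟩ := exists_cartLift p x fst
  subst e
  rw [eqToHom_refl, Category.id_comp] at ht
  exact ⟨x', t, snd, ht ▸ hpb, hsc⟩

/-- A strongly cartesian lift whose image is a given equalizer. -/
theorem exists_cart_equalizer [p.IsFibered] (x : 𝒳) {W E : C} (a b : p.obj x ⟶ W)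
    (ι : E ⟶ p.obj x) (w : ι ≫ a = ι ≫ b) (hl : IsLimit (Fork.ofι ι w)) :
    ∃ (x' : 𝒳) (t : x' ⟶ x) (w' : p.map t ≫ a = p.map t ≫ b),
      Nonempty (IsLimit (Fork.ofι (p.map t) w')) ∧ p.IsStronglyCartesian (p.map t) t := by
  obtain ⟨x', t, e, ht, hsc⟩ := exists_cartLift p x ι
  subst e
  rw [eqToHom_refl, Category.id_comp] at ht
  subst ht
  exact ⟨x', t, w, ⟨hl⟩, hsc⟩

end Plain

section Upp

variable {C : Type u} [Category.{v} C] {D : Type u₂} [Category.{v₂} D] (u : C ⥤ D)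
  (𝒮 : BasedCategory.{v₃, u₃} C)

open Stk

theorem uppR_id (a : UppObj u 𝒮) : uppR u 𝒮 (𝟙 a) := by
  refine ⟨?_, ?_⟩
  · change 𝒮.p.IsStronglyCartesian (𝒮.p.map (𝟙 a.x)) (𝟙 a.x)
    infer_instance
  · change IsIso (𝟙 a.V); infer_instance

theorem uppR_comp {a b c : UppObj u 𝒮} (f : a ⟶ b) (g : b ⟶ c) (hf : uppR u 𝒮 f)
    (hg : uppR u 𝒮 g) : uppR u 𝒮 (f ≫ g) := by
  refine ⟨?_, ?_⟩
  · change 𝒮.p.IsStronglyCartesian (𝒮.p.map (f.top ≫ g.top)) (f.top ≫ g.top)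
    have := hf.1
    have := hg.1
    rw [Functor.map_comp]
    infer_instance
  · change IsIso (f.bot ≫ g.bot)
    have := hf.2
    have := hg.2
    infer_instance

instance uppR_isMultiplicative : (uppR u 𝒮).IsMultiplicative where
  id_mem := uppR_id u 𝒮
  comp_mem := uppR_comp u 𝒮

theorem upp_ore [𝒮.p.IsFibered] [HasPullbacks C] [PreservesLimitsOfShape WalkingCospan u]
    {X Y : UppObj u 𝒮} (φ : (uppR u 𝒮).LeftFraction X Y) :
    ∃ ψ : (uppR u 𝒮).RightFraction X Y, ψ.s ≫ φ.f = ψ.f ≫ φ.s := by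
  obtain ⟨f, s, hs⟩ := φ
  haveI : IsIso s.bot := hs.2
  obtain ⟨x', t, q, hpb', hsc⟩ := exists_cart_pullback 𝒮.p X.x (𝒮.p.map f.top) (𝒮.p.map s.top)
    (pullback.fst _ _) (pullback.snd _ _) (IsPullback.of_hasPullback _ _)
  obtain ⟨gt, ⟨hgt1, hgt2⟩, -⟩ := sc_existsUnique 𝒮.p s.top hs.1 (t ≫ f.top) q
    (by rw [Functor.map_comp, ← hpb'.w])
  have hmap := hpb'.map u
  have hcond : X.φ ≫ u.map (𝒮.p.map f.top) =
      (f.bot ≫ inv s.bot ≫ Y.φ) ≫ u.map (𝒮.p.map s.top) := by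
    rw [f.w, Category.assoc, Category.assoc, s.w, IsIso.inv_hom_id_assoc]
  let φ' : X.V ⟶ u.obj (𝒮.p.obj x') := hmap.lift X.φ (f.bot ≫ inv s.bot ≫ Y.φ) hcond
  let X' : UppObj u 𝒮 := ⟨x', X.V, φ'⟩
  let tt : X' ⟶ X := ⟨t, 𝟙 _, by
    change φ' ≫ u.map (𝒮.p.map t) = 𝟙 _ ≫ X.φ
    rw [hmap.lift_fst, Category.id_comp]⟩
  let gg : X' ⟶ Y := ⟨gt, f.bot ≫ inv s.bot, by
    change φ' ≫ u.map (𝒮.p.map gt) = (f.bot ≫ inv s.bot) ≫ Y.φ
    rw [hgt1, hmap.lift_snd, Category.assoc]⟩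
  refine ⟨⟨tt, ⟨hsc, by change IsIso (𝟙 X.V); infer_instance⟩, gg⟩, ?_⟩
  apply UppObj.hom_ext
  · exact hgt2.symm
  · change 𝟙 _ ≫ f.bot = (f.bot ≫ inv s.bot) ≫ s.bot
    simp

theorem upp_ext [𝒮.p.IsFibered] [HasEqualizers C]
    [PreservesLimitsOfShape WalkingParallelPair u] {X Y Z : UppObj u 𝒮} (f₁ f₂ : X ⟶ Y)
    (s : Y ⟶ Z) (hs : uppR u 𝒮 s) (h : f₁ ≫ s = f₂ ≫ s) :
    ∃ (X' : UppObj u 𝒮) (t : X' ⟶ X) (_ : uppR u 𝒮 t), t ≫ f₁ = t ≫ f₂ := by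
  haveI : IsIso s.bot := hs.2
  have hbot : f₁.bot = f₂.bot := by
    have := congrArg UppObj.Hom.bot h
    change f₁.bot ≫ s.bot = f₂.bot ≫ s.bot at this
    exact (cancel_mono s.bot).1 this
  have htop : f₁.top ≫ s.top = f₂.top ≫ s.top := congrArg UppObj.Hom.top h
  obtain ⟨x', t, w', ⟨hl⟩, hsc⟩ := exists_cart_equalizer 𝒮.p X.x (𝒮.p.map f₁.top)
    (𝒮.p.map f₂.top) (equalizer.ι _ _) (equalizer.condition _ _) (equalizerIsEqualizer _ _)
  have hl' := isLimitForkMapOfIsLimit u w' hl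
  have hcond : X.φ ≫ u.map (𝒮.p.map f₁.top) = X.φ ≫ u.map (𝒮.p.map f₂.top) := by
    rw [f₁.w, f₂.w, hbot]
  let φ' : X.V ⟶ u.obj (𝒮.p.obj x') := Fork.IsLimit.lift hl' X.φ hcond
  have hφ' : φ' ≫ u.map (𝒮.p.map t) = X.φ := Fork.IsLimit.lift_ι' hl' X.φ hcond
  let X' : UppObj u 𝒮 := ⟨x', X.V, φ'⟩
  let tt : X' ⟶ X := ⟨t, 𝟙 _, by
    change φ' ≫ u.map (𝒮.p.map t) = 𝟙 _ ≫ X.φ
    rw [hφ', Category.id_comp]⟩
  refine ⟨X', tt, ⟨hsc, by change IsIso (𝟙 X.V); infer_instance⟩, ?_⟩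
  apply UppObj.hom_ext
  · change t ≫ f₁.top = t ≫ f₂.top
    apply sc_ext 𝒮.p s.top hs.1
    · rw [Functor.map_comp, Functor.map_comp, w']
    · rw [Category.assoc, Category.assoc, htop]
  · change 𝟙 _ ≫ f₁.bot = 𝟙 _ ≫ f₂.bot
    rw [hbot]

theorem upp_hasRightCalculusOfFractions [𝒮.p.IsFibered] [HasPullbacks C] [HasEqualizers C]
    [PreservesLimitsOfShape WalkingCospan u] [PreservesLimitsOfShape WalkingParallelPair u] :
    (uppR u 𝒮).HasRightCalculusOfFractions where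
  exists_rightFraction _ _ φ := upp_ore u 𝒮 φ
  ext _ _ _ f₁ f₂ s hs h := upp_ext u 𝒮 f₁ f₂ s hs h

end Upp

end Groth.Agent.Helper6.UppL
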