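import Mathlib
import Groth.Prelude.Def_W4stkalgstUpp
import Groth.Agent.Lib.Helper6.Upp.Frac

/-!
# The localisation `u_p 𝒮` is fibred over `D` (helper6)
-/

set_option linter.unusedSectionVars false
set_option linter.unusedVariables false
set_option linter.unusedSimpArgs false
set_option autoImplicit false
set_option linter.style.haveILetI false
set_option maxHeartbeats 400000

noncomputable section

namespace Groth.Agent.Helper6.UppL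

open CategoryTheory CategoryTheory.Limits CategoryTheory.Functor Stk

universe v₃ u₃ v₂ u₂ v u

variable {C : Type u} [Category.{v} C] {D : Type u₂} [Category.{v₂} D] (u : C ⥤ D)
  (𝒮 : BasedCategory.{v₃, u₃} C)

/-- The localisation functor. -/
abbrev Lq : UppObj u 𝒮 ⥤ (uppR u 𝒮).Localization := (uppR u 𝒮).Q

/-- The structure functor of the localisation. -/
abbrev Pq : (uppR u 𝒮).Localization ⥤ D :=
  Localization.Construction.lift (UppObj.forget u 𝒮) (uppR_isInvertedBy u 𝒮)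

theorem Pq_obj (a : UppObj u 𝒮) : (Pq u 𝒮).obj ((Lq u 𝒮).obj a) = a.V := rfl

theorem Pq_map {a b : UppObj u 𝒮} (f : a ⟶ b) : (Pq u 𝒮).map ((Lq u 𝒮).map f) = f.bot := by
  have := Functor.congr_hom
    (Localization.Construction.fac (UppObj.forget u 𝒮) (uppR_isInvertedBy u 𝒮)) f
  refine this.trans ?_
  erw [eqToHom_refl, eqToHom_refl, Category.id_comp, Category.comp_id]
  rfl

theorem isIso_Lq_map {a b : UppObj u 𝒮} (s : a ⟶ b) (hs : uppR u 𝒮 s) :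
    IsIso ((Lq u 𝒮).map s) :=
  Localization.inverts (Lq u 𝒮) (uppR u 𝒮) s hs

theorem Pq_map_inv {a b : UppObj u 𝒮} (s : a ⟶ b) (hs : uppR u 𝒮 s) :
    haveI := isIso_Lq_map u 𝒮 s hs
    haveI : IsIso s.bot := hs.2
    (Pq u 𝒮).map (inv ((Lq u 𝒮).map s)) = inv s.bot := by
  haveI := isIso_Lq_map u 𝒮 s hs
  haveI : IsIso s.bot := hs.2
  rw [Functor.map_inv]
  congr 1
  exact Pq_map u 𝒮 s

/-- Base change of an object of `u_pp 𝒮` along a morphism of `D`. -/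
def bcObj (a : UppObj u 𝒮) {V' : D} (g : V' ⟶ a.V) : UppObj u 𝒮 := ⟨a.x, V', g ≫ a.φ⟩

/-- The canonical morphism from the base change. -/
def bcHom (a : UppObj u 𝒮) {V' : D} (g : V' ⟶ a.V) : bcObj u 𝒮 a g ⟶ a :=
  ⟨𝟙 a.x, g, by
    change (g ≫ a.φ) ≫ u.map (𝒮.p.map (𝟙 a.x)) = g ≫ a.φ
    rw [CategoryTheory.Functor.map_id, CategoryTheory.Functor.map_id, Category.comp_id]⟩

section Cart

variable [(uppR u 𝒮).HasRightCalculusOfFractions]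

theorem Pq_map_rightFraction {b a : UppObj u 𝒮} (φ : (uppR u 𝒮).RightFraction b a) :
    haveI : IsIso φ.s.bot := φ.hs.2
    (Pq u 𝒮).map (φ.map (Lq u 𝒮) (Localization.inverts _ _)) = inv φ.s.bot ≫ φ.f.bot := by
  haveI : IsIso φ.s.bot := φ.hs.2
  haveI := isIso_Lq_map u 𝒮 φ.s φ.hs
  unfold MorphismProperty.RightFraction.map
  rw [Functor.map_comp, Pq_map, Pq_map_inv u 𝒮 φ.s φ.hs]
  rfl

theorem bc_cancel (a : UppObj u 𝒮) {V' : D} (g : V' ⟶ a.V) {b : UppObj u 𝒮}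
    (ξ₁ ξ₂ : (Lq u 𝒮).obj b ⟶ (Lq u 𝒮).obj (bcObj u 𝒮 a g))
    (hP : (Pq u 𝒮).map ξ₁ = (Pq u 𝒮).map ξ₂)
    (hm : ξ₁ ≫ (Lq u 𝒮).map (bcHom u 𝒮 a g) = ξ₂ ≫ (Lq u 𝒮).map (bcHom u 𝒮 a g)) :
    ξ₁ = ξ₂ := by
  obtain ⟨φ₁, hφ₁⟩ := Localization.exists_rightFraction (Lq u 𝒮) (uppR u 𝒮) ξ₁
  obtain ⟨b₁, s₁, hs₁, f₁, rfl⟩ := φ₁.cases
  haveI : IsIso s₁.bot := hs₁.2
  haveI hLs₁ : IsIso ((Lq u 𝒮).map s₁) := isIso_Lq_map u 𝒮 s₁ hs₁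
  obtain ⟨φ₂, hφ₂⟩ := Localization.exists_rightFraction (Lq u 𝒮) (uppR u 𝒮)
    ((Lq u 𝒮).map s₁ ≫ ξ₂)
  obtain ⟨b₂, s₂, hs₂, f₂, rfl⟩ := φ₂.cases
  haveI : IsIso s₂.bot := hs₂.2
  haveI hLs₂ : IsIso ((Lq u 𝒮).map s₂) := isIso_Lq_map u 𝒮 s₂ hs₂
  -- the fractions
  have e₁ : (Lq u 𝒮).map s₁ ≫ ξ₁ = (Lq u 𝒮).map f₁ := by
    rw [hφ₁]
    exact MorphismProperty.RightFraction.map_s_comp_map
      (MorphismProperty.RightFraction.mk s₁ hs₁ f₁) (Lq u 𝒮) (Localization.inverts _ _)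
  have e₂ : (Lq u 𝒮).map s₂ ≫ (Lq u 𝒮).map s₁ ≫ ξ₂ = (Lq u 𝒮).map f₂ := by
    rw [hφ₂]
    exact MorphismProperty.RightFraction.map_s_comp_map
      (MorphismProperty.RightFraction.mk s₂ hs₂ f₂) (Lq u 𝒮) (Localization.inverts _ _)
  -- (i) bottoms
  have hb₁ : s₁.bot ≫ (Pq u 𝒮).map ξ₁ = f₁.bot := by
    have := congrArg (Pq u 𝒮).map e₁
    rwa [Functor.map_comp, Pq_map, Pq_map] at this
  have hb₂ : s₂.bot ≫ s₁.bot ≫ (Pq u 𝒮).map ξ₂ = f₂.bot := by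
    have := congrArg (Pq u 𝒮).map e₂
    rwa [Functor.map_comp, Functor.map_comp, Pq_map, Pq_map, Pq_map] at this
  have hbot : f₂.bot = (s₂ ≫ f₁).bot := by
    change f₂.bot = s₂.bot ≫ f₁.bot
    rw [← hb₂, ← hb₁, hP]
    rfl
  -- (ii) tops
  have hL : (Lq u 𝒮).map (f₂ ≫ bcHom u 𝒮 a g) = (Lq u 𝒮).map ((s₂ ≫ f₁) ≫ bcHom u 𝒮 a g) := by
    rw [Functor.map_comp, ← e₂, Functor.map_comp, Functor.map_comp, ← e₁]
    simp only [Category.assoc]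
    rw [hm]
  obtain ⟨b₃, t, ht, htf⟩ := (MorphismProperty.map_eq_iff_precomp (Lq u 𝒮) (uppR u 𝒮) _ _).1 hL
  have htop : t.top ≫ f₂.top = t.top ≫ (s₂ ≫ f₁).top := by
    have := congrArg UppObj.Hom.top htf
    change t.top ≫ f₂.top ≫ 𝟙 _ = t.top ≫ (s₂ ≫ f₁).top ≫ 𝟙 _ at this
    rwa [Category.comp_id, Category.comp_id] at this
  have hteq : t ≫ f₂ = t ≫ (s₂ ≫ f₁) := by
    apply UppObj.hom_ext
    · exact htop
    · change t.bot ≫ f₂.bot = t.bot ≫ (s₂ ≫ f₁).bot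
      rw [hbot]
  have hLf : (Lq u 𝒮).map f₂ = (Lq u 𝒮).map (s₂ ≫ f₁) :=
    (MorphismProperty.map_eq_iff_precomp (Lq u 𝒮) (uppR u 𝒮) _ _).2 ⟨b₃, t, ht, hteq⟩
  -- conclusion
  have h3 : (Lq u 𝒮).map s₂ ≫ (Lq u 𝒮).map s₁ ≫ ξ₂ = (Lq u 𝒮).map s₂ ≫ (Lq u 𝒮).map s₁ ≫ ξ₁ := by
    rw [e₂, hLf, Functor.map_comp, e₁]
  have h4 := (cancel_epi ((Lq u 𝒮).map s₂)).1 h3
  exact ((cancel_epi ((Lq u 𝒮).map s₁)).1 h4).symm

theorem isStronglyCartesian_bc (a : UppObj u 𝒮) {V' : D} (g : V' ⟶ a.V) :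
    (Pq u 𝒮).IsStronglyCartesian (R := V') (S := a.V) (a := (Lq u 𝒮).obj (bcObj u 𝒮 a g))
      (b := (Lq u 𝒮).obj a) g ((Lq u 𝒮).map (bcHom u 𝒮 a g)) := by
  have hlift : (Pq u 𝒮).IsHomLift (R := V') (S := a.V) (a := (Lq u 𝒮).obj (bcObj u 𝒮 a g))
      (b := (Lq u 𝒮).obj a) g ((Lq u 𝒮).map (bcHom u 𝒮 a g)) :=
    (isHomLift_iff_map_eq' (Pq u 𝒮) (a := (Lq u 𝒮).obj (bcObj u 𝒮 a g))
      (b := (Lq u 𝒮).obj a) g _).2 (Pq_map u 𝒮 (bcHom u 𝒮 a g))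
  refine { toIsHomLift := hlift, universal_property' := ?_ }
  intro B h ψ hψ
  obtain ⟨b, rfl⟩ := (Localization.Construction.objEquiv (uppR u 𝒮)).surjective B
  change (Lq u 𝒮).obj b ⟶ (Lq u 𝒮).obj a at ψ
  change (Pq u 𝒮).obj ((Lq u 𝒮).obj b) ⟶ V' at h
  have hPψ : (Pq u 𝒮).map ψ = h ≫ g :=
    (isHomLift_iff_map_eq' (Pq u 𝒮) (a := (Lq u 𝒮).obj b) (b := (Lq u 𝒮).obj a) (h ≫ g) ψ).1 hψ
  obtain ⟨φ, hφ⟩ := Localization.exists_rightFraction (Lq u 𝒮) (uppR u 𝒮) ψ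
  obtain ⟨b', s, hs, f, rfl⟩ := φ.cases
  haveI : IsIso s.bot := hs.2
  haveI hLs : IsIso ((Lq u 𝒮).map s) := isIso_Lq_map u 𝒮 s hs
  have e : (Lq u 𝒮).map s ≫ ψ = (Lq u 𝒮).map f := by
    rw [hφ]
    exact MorphismProperty.RightFraction.map_s_comp_map
      (MorphismProperty.RightFraction.mk s hs f) (Lq u 𝒮) (Localization.inverts _ _)
  have hb : s.bot ≫ h ≫ g = f.bot := by
    have := congrArg (Pq u 𝒮).map e
    rwa [Functor.map_comp, Pq_map, Pq_map, hPψ] at this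
  let f' : b' ⟶ bcObj u 𝒮 a g := ⟨f.top, s.bot ≫ h, by
    change b'.φ ≫ u.map (𝒮.p.map f.top) = (s.bot ≫ h) ≫ g ≫ a.φ
    rw [f.w, ← hb]
    simp only [Category.assoc]⟩
  have hf' : f' ≫ bcHom u 𝒮 a g = f := by
    apply UppObj.hom_ext
    · change f.top ≫ 𝟙 _ = f.top
      rw [Category.comp_id]
    · change (s.bot ≫ h) ≫ g = f.bot
      rw [Category.assoc, hb]
  obtain ⟨χ, hχ⟩ : ∃ χ : (Lq u 𝒮).obj b ⟶ (Lq u 𝒮).obj (bcObj u 𝒮 a g),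
      χ = inv ((Lq u 𝒮).map s) ≫ (Lq u 𝒮).map f' := ⟨_, rfl⟩
  have hPχ : (Pq u 𝒮).map χ = h := by
    rw [hχ, Functor.map_comp, Pq_map_inv u 𝒮 s hs, Pq_map]
    change inv s.bot ≫ s.bot ≫ h = h
    rw [IsIso.inv_hom_id_assoc]
  have hχm : χ ≫ (Lq u 𝒮).map (bcHom u 𝒮 a g) = ψ := by
    rw [hχ, Category.assoc, ← Functor.map_comp, hf', ← e, IsIso.inv_hom_id_assoc]
  refine ⟨χ, ⟨?_, hχm⟩, ?_⟩
  · exact (isHomLift_iff_map_eq' (Pq u 𝒮) (a := (Lq u 𝒮).obj b)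
      (b := (Lq u 𝒮).obj (bcObj u 𝒮 a g)) h _).2 hPχ
  · rintro χ' ⟨hχ1, hχ2⟩
    have hPχ' : (Pq u 𝒮).map χ' = h :=
      (isHomLift_iff_map_eq' (Pq u 𝒮) (a := (Lq u 𝒮).obj b)
        (b := (Lq u 𝒮).obj (bcObj u 𝒮 a g)) h χ').1 hχ1
    apply bc_cancel u 𝒮 a g
    · exact hPχ'.trans hPχ.symm
    · exact hχ2.trans hχm.symm

/-- The localisation `u_p 𝒮` is fibred over `D`. -/
theorem isFibered_Pq : (Pq u 𝒮).IsFibered := by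
  apply IsFibered.of_exists_isStronglyCartesian
  intro A V' g
  obtain ⟨a, rfl⟩ := (Localization.Construction.objEquiv (uppR u 𝒮)).surjective A
  exact ⟨(Lq u 𝒮).obj (bcObj u 𝒮 a g), (Lq u 𝒮).map (bcHom u 𝒮 a g),
    isStronglyCartesian_bc u 𝒮 a g⟩

end Cart

end Groth.Agent.Helper6.UppL
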