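import Mathlib
import Groth.Prelude.Def_W4stkalgstUpp
import Groth.Prelude.Def_FibCat2
import Groth.Agent.Lib.Helper6.Upp.Fib

/-!
# The localisation `u_p 𝒮` is fibred in groupoids over `D` when `𝒮` is (helper6)
-/

set_option linter.unusedSectionVars false
set_option linter.unusedVariables false
set_option linter.unusedSimpArgs false
set_option autoImplicit false
set_option linter.style.haveILetI false
set_option maxHeartbeats 400000

noncomputable section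

namespace Groth.Agent.Helper6.UppL

open CategoryTheory CategoryTheory.Limits CategoryTheory.Functor Stk

universe v₃ u₃ v₂ u₂ v u

variable {C : Type u} [Category.{v} C] {D : Type u₂} [Category.{v₂} D] (u : C ⥤ D)
  (𝒮 : BasedCategory.{v₃, u₃} C)

theorem sc_of_isHomLift_of_map {𝒳 : Type u₃} [Category.{v₃} 𝒳] (p : 𝒳 ⥤ C)
    {R S : C} (f : R ⟶ S) {a b : 𝒳} (φ : a ⟶ b) (hl : p.IsHomLift f φ)
    (h : p.IsStronglyCartesian (p.map φ) φ) : p.IsStronglyCartesian f φ := by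
  obtain ⟨⟩ := hl
  exact h

theorem isFibered_of_isFibGrpd' {𝒳 : Type u₃} [Category.{v₃} 𝒳] (p : 𝒳 ⥤ C)
    (h : FibCat.IsFibGrpd p) : p.IsFibered := by
  apply IsFibered.of_exists_isStronglyCartesian
  intro a R f
  obtain ⟨b, φ, hφ⟩ := h.exists_lift f
  exact ⟨b, φ, sc_of_isHomLift_of_map p f φ hφ (h.isStronglyCartesian φ)⟩

section

variable [(uppR u 𝒮).HasRightCalculusOfFractions] (h𝒮 : FibCat.IsFibGrpd 𝒮.p)

include h𝒮 in
theorem isStronglyCartesian_Lq_map {b a : UppObj u 𝒮} (f : b ⟶ a) :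
    (Pq u 𝒮).IsStronglyCartesian ((Pq u 𝒮).map ((Lq u 𝒮).map f)) ((Lq u 𝒮).map f) := by
  let f₁ : b ⟶ bcObj u 𝒮 a f.bot := ⟨f.top, 𝟙 b.V, by
    change b.φ ≫ u.map (𝒮.p.map f.top) = 𝟙 _ ≫ f.bot ≫ a.φ
    rw [f.w, Category.id_comp]⟩
  have hf₁ : uppR u 𝒮 f₁ := ⟨h𝒮.isStronglyCartesian f.top, by
    change IsIso (𝟙 b.V); infer_instance⟩
  have hfac : f₁ ≫ bcHom u 𝒮 a f.bot = f := by
    apply UppObj.hom_ext
    · change f.top ≫ 𝟙 _ = f.top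
      rw [Category.comp_id]
    · change 𝟙 _ ≫ f.bot = f.bot
      rw [Category.id_comp]
  haveI : IsIso ((Lq u 𝒮).map f₁) := isIso_Lq_map u 𝒮 f₁ hf₁
  have h1 : (Pq u 𝒮).IsStronglyCartesian ((Pq u 𝒮).map ((Lq u 𝒮).map f₁)) ((Lq u 𝒮).map f₁) :=
    inferInstance
  have h2 : (Pq u 𝒮).IsStronglyCartesian f.bot ((Lq u 𝒮).map (bcHom u 𝒮 a f.bot)) :=
    isStronglyCartesian_bc u 𝒮 a f.bot
  have h3 : (Pq u 𝒮).IsStronglyCartesian ((Pq u 𝒮).map ((Lq u 𝒮).map f₁) ≫ f.bot)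
      ((Lq u 𝒮).map f₁ ≫ (Lq u 𝒮).map (bcHom u 𝒮 a f.bot)) :=
    @IsStronglyCartesian.comp _ _ _ _ (Pq u 𝒮) _ _ _ _ _ _ _ _ _ _ h1 h2
  have h4 := sc_map_of (Pq u 𝒮) _ _ h3
  rw [← Functor.map_comp, hfac] at h4
  exact h4

include h𝒮 in
theorem isFibGrpd_Pq : FibCat.IsFibGrpd (Pq u 𝒮) where
  exists_lift := by
    intro A V' g
    obtain ⟨a, rfl⟩ := (Localization.Construction.objEquiv (uppR u 𝒮)).surjective A
    exact ⟨(Lq u 𝒮).obj (bcObj u 𝒮 a g), (Lq u 𝒮).map (bcHom u 𝒮 a g),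
      (isStronglyCartesian_bc u 𝒮 a g).toIsHomLift⟩
  isStronglyCartesian := by
    intro B A ψ
    obtain ⟨a, rfl⟩ := (Localization.Construction.objEquiv (uppR u 𝒮)).surjective A
    obtain ⟨b, rfl⟩ := (Localization.Construction.objEquiv (uppR u 𝒮)).surjective B
    change (Lq u 𝒮).obj b ⟶ (Lq u 𝒮).obj a at ψ
    obtain ⟨φ, hφ⟩ := Localization.exists_rightFraction (Lq u 𝒮) (uppR u 𝒮) ψ
    obtain ⟨b', s, hs, f, rfl⟩ := φ.cases
    haveI hLs : IsIso ((Lq u 𝒮).map s) := isIso_Lq_map u 𝒮 s hs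
    have e : ψ = inv ((Lq u 𝒮).map s) ≫ (Lq u 𝒮).map f := hφ
    have h1 : (Pq u 𝒮).IsStronglyCartesian ((Pq u 𝒮).map (inv ((Lq u 𝒮).map s)))
        (inv ((Lq u 𝒮).map s)) := inferInstance
    have h2 := isStronglyCartesian_Lq_map u 𝒮 h𝒮 f
    have h3 : (Pq u 𝒮).IsStronglyCartesian
        ((Pq u 𝒮).map (inv ((Lq u 𝒮).map s)) ≫ (Pq u 𝒮).map ((Lq u 𝒮).map f))
        (inv ((Lq u 𝒮).map s) ≫ (Lq u 𝒮).map f) :=
      @IsStronglyCartesian.comp _ _ _ _ (Pq u 𝒮) _ _ _ _ _ _ _ _ _ _ h1 h2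
    have h4 := sc_map_of (Pq u 𝒮) _ _ h3
    rw [← e] at h4
    exact h4

end

end Groth.Agent.Helper6.UppL
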